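import Groth.Agent.AlgGrpQ.Irred
import Groth.Agent.Obs28.Points
import Mathlib.RingTheory.Ideal.Height
import Mathlib.RingTheory.Ideal.MinimalPrime.Noetherian
import Mathlib.RingTheory.HopfAlgebra.Quotient
import Mathlib.GroupTheory.Finiteness

/-!
# Closures of subgroups of the group of rational points
-/

set_option autoImplicit false
set_option linter.style.haveILetI false

universe u

open TensorProduct WithConv

namespace Groth.Agent.NonAbLib.DenseFG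

open AlgGrpQ (IsIrred IsReg)

variable {k : Type u} [Field k] {A : Type u} [CommRing A] [HopfAlgebra k A]

local notation "Pt" => WithConv (A →ₐ[k] k)

/-- The vanishing ideal of a set of points. -/
def vI (S : Set (WithConv (A →ₐ[k] k))) : Ideal A := ⨅ g ∈ S, RingHom.ker g.ofConv

theorem mem_vI {S : Set Pt} {a : A} : a ∈ vI S ↔ ∀ g ∈ S, g.ofConv a = 0 := by
  simp [vI, Submodule.mem_iInf]

/-- The points of an ideal. -/
def pts (P : Ideal A) : Set (WithConv (A →ₐ[k] k)) := {g | ∀ a ∈ P, g.ofConv a = 0}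

theorem vI_anti {S T : Set Pt} (h : S ⊆ T) : vI T ≤ vI S :=
  fun _ ha => mem_vI.2 fun g hg => mem_vI.1 ha g (h hg)

theorem le_vI_pts (P : Ideal A) : P ≤ vI (pts (k := k) P) := fun a ha => mem_vI.2 fun _ hg => hg a ha

theorem subset_pts_vI (S : Set Pt) : S ⊆ pts (vI S) := fun g hg _ ha => mem_vI.1 ha g hg

theorem pts_anti {P Q : Ideal A} (h : P ≤ Q) : pts (k := k) Q ⊆ pts P := fun _ hg a ha => hg a (h ha)

theorem isRadical_vI (S : Set Pt) : (vI S).IsRadical := by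
  rintro a ⟨n, hn⟩
  refine mem_vI.2 fun g hg => ?_
  have h := mem_vI.1 hn g hg
  rw [map_pow] at h
  exact eq_zero_of_pow_eq_zero h

theorem ker_le_iff {g : Pt} {P : Ideal A} : P ≤ RingHom.ker g.ofConv ↔ g ∈ pts P := Iff.rfl

theorem isPrime_vI {S : Set Pt} (hS : IsIrred S) (hne : S.Nonempty) : (vI S).IsPrime := by
  obtain ⟨g, hg⟩ := hne
  refine ⟨fun h => ?_, fun {a b} hab => ?_⟩
  · exact one_ne_zero ((map_one g.ofConv).symm.trans (mem_vI.1 (h ▸ trivial : (1 : A) ∈ vI S) g hg))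
  · rcases hS a b (fun g hg => by rw [← map_mul]; exact mem_vI.1 hab g hg) with h | h
    · exact Or.inl (mem_vI.2 h)
    · exact Or.inr (mem_vI.2 h)

/-- Closures are functorial for regular maps. -/
theorem mapsTo_cl {S T : Set Pt} {f : Pt → Pt} (hf : IsReg f) (h : Set.MapsTo f S (pts (vI T))) :
    Set.MapsTo f (pts (vI S)) (pts (vI T)) := by
  intro g hg a ha
  obtain ⟨b, hb⟩ := hf a
  rw [hb]
  exact hg b (mem_vI.2 fun x hx => by rw [← hb]; exact h hx a ha)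

/-- The closure of a subgroup is a subgroup. -/
def clSub (Φ : Subgroup (WithConv (A →ₐ[k] k))) : Subgroup (WithConv (A →ₐ[k] k)) where
  carrier := pts (vI (Φ : Set Pt))
  one_mem' := subset_pts_vI _ Φ.one_mem
  mul_mem' {x y} hx hy := by
    have h1 : ∀ g ∈ Φ, g * y ∈ pts (vI (Φ : Set Pt)) := fun g hg =>
      mapsTo_cl (AlgGrpQ.IsReg.mul (AlgGrpQ.isReg_const g) AlgGrpQ.isReg_id)
        (fun z hz => subset_pts_vI _ (Φ.mul_mem hg hz)) hy
    exact mapsTo_cl (AlgGrpQ.IsReg.mul AlgGrpQ.isReg_id (AlgGrpQ.isReg_const y)) (fun z hz => h1 z hz) hx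
  inv_mem' {x} hx :=
    mapsTo_cl (AlgGrpQ.IsReg.inv AlgGrpQ.isReg_id) (fun z hz => subset_pts_vI _ (Φ.inv_mem hz)) hx

theorem mem_clSub {Φ : Subgroup Pt} {x : Pt} : x ∈ clSub Φ ↔ x ∈ pts (vI (Φ : Set Pt)) := Iff.rfl

theorem le_clSub (Φ : Subgroup Pt) : Φ ≤ clSub Φ := fun _ hg => mem_clSub.2 (subset_pts_vI _ hg)

theorem clSub_mono {Φ Φ' : Subgroup Pt} (h : Φ ≤ Φ') : clSub Φ ≤ clSub Φ' := fun x hx =>
  mem_clSub.2 (pts_anti (vI_anti (SetLike.coe_subset_coe.2 h)) (mem_clSub.1 hx))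

theorem mem_clSub_of_pts {Φ : Subgroup Pt} {P : Ideal A} (h : vI (Φ : Set Pt) ≤ P) {x : Pt}
    (hx : x ∈ pts (k := k) P) : x ∈ clSub Φ :=
  mem_clSub.2 (pts_anti h hx)

variable [IsAlgClosed k] [Algebra.FiniteType k A]

theorem vI_pts_le {P : Ideal A} (hP : P.IsRadical) : vI (pts (k := k) P) ≤ P := fun a ha => by
  by_contra hne
  haveI : IsReduced (A ⧸ P) := (Ideal.isRadical_iff_quotient_reduced P).1 hP
  have hn : ¬ IsNilpotent (Ideal.Quotient.mk P a) := fun h =>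
    hne (Ideal.Quotient.eq_zero_iff_mem.1 h.eq_zero)
  obtain ⟨x, hx⟩ := ComodLib.exists_point_ne_zero (k := k) hn
  exact hx (mem_vI.1 ha (toConv (x.comp (Ideal.Quotient.mkₐ k P))) fun b hb => by
    show x (Ideal.Quotient.mk P b) = 0
    rw [Ideal.Quotient.eq_zero_iff_mem.2 hb, map_zero])

theorem vI_pts {P : Ideal A} (hP : P.IsRadical) : vI (pts (k := k) P) = P :=
  le_antisymm (vI_pts_le hP) (le_vI_pts P)

theorem isIrred_pts (P : Ideal A) [P.IsPrime] : IsIrred (pts (k := k) P) := by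
  intro a b hab
  have : a * b ∈ P := vI_pts_le (k := k) (Ideal.IsPrime.isRadical inferInstance)
    (mem_vI.2 fun g hg => by rw [map_mul]; exact hab g hg)
  rcases Ideal.IsPrime.mem_or_mem inferInstance this with h | h
  · exact Or.inl fun g hg => hg a h
  · exact Or.inr fun g hg => hg b h

omit [IsAlgClosed k] [Algebra.FiniteType k A] in
theorem isIrred_image {S : Set Pt} (hS : IsIrred S) {f : Pt → Pt} (hf : IsReg f) : IsIrred (f '' S) := by
  intro a b hab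
  obtain ⟨α, hα⟩ := hf a
  obtain ⟨β, hβ⟩ := hf b
  rcases hS α β (fun g hg => by rw [← hα, ← hβ]; exact hab _ ⟨g, hg, rfl⟩) with h | h
  · refine Or.inl ?_
    rintro _ ⟨g, hg, rfl⟩
    rw [hα]; exact h g hg
  · refine Or.inr ?_
    rintro _ ⟨g, hg, rfl⟩
    rw [hβ]; exact h g hg

variable (A) in
/-- An irreducible set through the identity inside the closure of a finitely generated subgroup. -/
def Reached (P : Ideal A) : Prop :=
  P.IsPrime ∧ (1 : WithConv (A →ₐ[k] k)) ∈ pts P ∧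
    ∃ Φ : Subgroup (WithConv (A →ₐ[k] k)), Φ.FG ∧ vI (Φ : Set (WithConv (A →ₐ[k] k))) ≤ P

/-- There is a largest one. -/
theorem exists_largest : ∃ P : Ideal A, Reached (k := k) A P ∧ ∀ Q, Reached (k := k) A Q → P ≤ Q := by
  haveI : IsNoetherianRing A := Algebra.FiniteType.isNoetherianRing k A
  have hne : ∃ P : Ideal A, Reached (k := k) A P := by
    have hp : (RingHom.ker (1 : Pt).ofConv).IsPrime := RingHom.ker_isPrime _
    refine ⟨_, hp, fun a ha => ha, ⊥, ?_, fun a ha => mem_vI.1 ha 1 (Subgroup.one_mem _)⟩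
    exact ⟨∅, by simp⟩
  obtain ⟨P, hP, hmin⟩ := exists_minimalFor_of_wellFoundedLT (Reached (k := k) A) Ideal.height hne
  refine ⟨P, hP, fun Q hQ => ?_⟩
  obtain ⟨hPp, hP1, Φ, hΦ, hΦP⟩ := hP
  obtain ⟨hQp, hQ1, Ψ, hΨ, hΨQ⟩ := hQ
  let S := Set.image2 (· * ·) (pts (k := k) P) (pts (k := k) Q)
  have hS : IsIrred S := AlgGrpQ.IsIrred.image2 (isIrred_pts P) (isIrred_pts Q)
    (fun t => AlgGrpQ.IsReg.mul AlgGrpQ.isReg_id (AlgGrpQ.isReg_const t))
    (fun s => AlgGrpQ.IsReg.mul (AlgGrpQ.isReg_const s) AlgGrpQ.isReg_id)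
  have h1S : (1 : Pt) ∈ S := ⟨1, hP1, 1, hQ1, _root_.one_mul 1⟩
  have hR : Reached (k := k) A (vI S) := by
    refine ⟨isPrime_vI hS ⟨1, h1S⟩, subset_pts_vI _ h1S, Φ ⊔ Ψ, hΦ.sup hΨ, fun a ha => mem_vI.2 ?_⟩
    rintro _ ⟨x, hx, y, hy, rfl⟩
    exact mem_clSub.1 (mul_mem (clSub_mono (le_sup_left (b := Ψ)) (mem_clSub_of_pts hΦP hx))
      (clSub_mono (le_sup_right (a := Φ)) (mem_clSub_of_pts hΨQ hy))) a ha
  have hRP : vI S ≤ P := (vI_anti (T := S) fun g hg => ⟨g, hg, 1, hQ1, _root_.mul_one g⟩).trans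
    (vI_pts_le hPp.isRadical)
  have hRQ : vI S ≤ Q := (vI_anti (T := S) fun g hg => ⟨1, hP1, g, hg, _root_.one_mul g⟩).trans
    (vI_pts_le hQp.isRadical)
  haveI := hR.1
  rcases lt_or_eq_of_le hRP with h | h
  · exact absurd (hmin hR (Ideal.height_strict_mono_of_isPrime h).le)
      (not_le.2 (Ideal.height_strict_mono_of_isPrime h))
  · exact h ▸ hRQ

variable {P : Ideal A} (hP : Reached (k := k) A P) (hmax : ∀ Q, Reached (k := k) A Q → P ≤ Q)

include hP hmax in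
theorem mul_mem_pts {x y : Pt} (hx : x ∈ pts (k := k) P) (hy : y ∈ pts (k := k) P) : x * y ∈ pts (k := k) P := by
  obtain ⟨hPp, hP1, Φ, hΦ, hΦP⟩ := hP
  let S := Set.image2 (· * ·) (pts (k := k) P) (pts (k := k) P)
  have hS : IsIrred S := AlgGrpQ.IsIrred.image2 (isIrred_pts P) (isIrred_pts P)
    (fun t => AlgGrpQ.IsReg.mul AlgGrpQ.isReg_id (AlgGrpQ.isReg_const t))
    (fun s => AlgGrpQ.IsReg.mul (AlgGrpQ.isReg_const s) AlgGrpQ.isReg_id)
  have h1S : (1 : Pt) ∈ S := ⟨1, hP1, 1, hP1, _root_.one_mul 1⟩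
  refine pts_anti (hmax _ ⟨isPrime_vI hS ⟨1, h1S⟩, subset_pts_vI _ h1S, Φ, hΦ, fun a ha => mem_vI.2 ?_⟩)
    (subset_pts_vI _ ⟨x, hx, y, hy, rfl⟩)
  rintro _ ⟨a', ha', b', hb', rfl⟩
  exact mem_clSub.1 (mul_mem (mem_clSub_of_pts hΦP ha') (mem_clSub_of_pts hΦP hb')) a ha

include hP hmax in
theorem image_subset_pts {f : Pt → Pt} (hf : IsReg f) (hf1 : f 1 = 1)
    (h : ∀ Φ : Subgroup Pt, Φ.FG → ∃ Φ' : Subgroup Pt, Φ'.FG ∧ ∀ x ∈ clSub Φ, f x ∈ clSub Φ')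
    {x : Pt} (hx : x ∈ pts (k := k) P) : f x ∈ pts (k := k) P := by
  obtain ⟨hPp, hP1, Φ, hΦ, hΦP⟩ := hP
  obtain ⟨Φ', hΦ', hf'⟩ := h Φ hΦ
  refine pts_anti (hmax _ ⟨isPrime_vI (isIrred_image (isIrred_pts P) hf) ⟨_, 1, hP1, rfl⟩,
    subset_pts_vI _ ⟨1, hP1, hf1⟩, Φ', hΦ', fun a ha => mem_vI.2 ?_⟩) (subset_pts_vI _ ⟨x, hx, rfl⟩)
  rintro _ ⟨y, hy, rfl⟩
  exact mem_clSub.1 (hf' y (mem_clSub_of_pts hΦP hy)) a ha

include hP hmax in
/-- The largest one is a normal subgroup. -/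
theorem exists_normal : ∃ Z : Subgroup Pt, (Z : Set Pt) = pts P ∧ Z.Normal := by
  let Z : Subgroup Pt :=
    { carrier := pts P
      one_mem' := hP.2.1
      mul_mem' := mul_mem_pts hP hmax
      inv_mem' := fun {x} hx => image_subset_pts hP hmax (AlgGrpQ.IsReg.inv AlgGrpQ.isReg_id) inv_one
        (fun Φ hΦ => ⟨Φ, hΦ, fun y hy => (clSub Φ).inv_mem hy⟩) hx }
  refine ⟨Z, rfl, ⟨fun n hn g => ?_⟩⟩
  refine image_subset_pts hP hmax (f := fun x => g * x * g⁻¹)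
    (AlgGrpQ.IsReg.mul (AlgGrpQ.IsReg.mul (AlgGrpQ.isReg_const g) AlgGrpQ.isReg_id) (AlgGrpQ.isReg_const g⁻¹))
    (by simp) (fun Φ hΦ => ?_) hn
  refine ⟨Φ ⊔ Subgroup.zpowers g, hΦ.sup ⟨{g}, by simp [Subgroup.zpowers_eq_closure]⟩, fun y hy => ?_⟩
  have hg : g ∈ clSub (Φ ⊔ Subgroup.zpowers g) :=
    le_clSub _ (le_sup_right (a := Φ) (Subgroup.mem_zpowers g))
  exact mul_mem (mul_mem hg (clSub_mono (le_sup_left (b := Subgroup.zpowers g)) hy)) (inv_mem hg)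

omit hP in
include hmax in
/-- Every point has a power in it. -/
theorem exists_pow_mem (g : Pt) : ∃ m : ℕ, 0 < m ∧ g ^ m ∈ pts (k := k) P := by
  haveI : IsNoetherianRing A := Algebra.FiniteType.isNoetherianRing k A
  let C : Subgroup Pt := Subgroup.zpowers g
  haveI : Finite (vI (C : Set Pt)).minimalPrimes :=
    (Ideal.finite_minimalPrimes_of_isNoetherianRing A _).to_subtype
  have hsel : ∀ i : ℕ, ∃ R : (vI (C : Set Pt)).minimalPrimes, g ^ i ∈ pts (k := k) R.1 := fun i => by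
    haveI : (RingHom.ker (g ^ i).ofConv).IsPrime := RingHom.ker_isPrime _
    obtain ⟨R, hR, hRle⟩ := Ideal.exists_minimalPrimes_le
      (show vI (C : Set Pt) ≤ RingHom.ker (g ^ i).ofConv from fun a ha =>
        mem_vI.1 ha _ (Subgroup.pow_mem _ (Subgroup.mem_zpowers g) i))
    exact ⟨⟨R, hR⟩, ker_le_iff.1 hRle⟩
  choose R hR using hsel
  obtain ⟨i, j, hne, hij⟩ := Finite.exists_ne_map_eq_of_infinite R
  wlog hlt : i < j generalizing i j with H
  · exact H j i hne.symm hij.symm (lt_of_le_of_ne (not_lt.1 hlt) hne.symm)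
  refine ⟨j - i, Nat.sub_pos_of_lt hlt, ?_⟩
  haveI : (R i).1.IsPrime := (R i).2.1.1
  let f : Pt → Pt := fun x => x * (g ^ i)⁻¹
  have hf : IsReg f := AlgGrpQ.IsReg.mul AlgGrpQ.isReg_id (AlgGrpQ.isReg_const _)
  have hS := isIrred_image (isIrred_pts (k := k) (R i).1) hf
  have h1 : (1 : Pt) ∈ f '' pts (k := k) (R i).1 := ⟨g ^ i, hR i, mul_inv_cancel _⟩
  refine pts_anti (hmax _ ⟨isPrime_vI hS ⟨1, h1⟩, subset_pts_vI _ h1, C, ⟨{g}, by simp [C, Subgroup.zpowers_eq_closure]⟩,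
    fun a ha => mem_vI.2 ?_⟩) (subset_pts_vI _ ⟨g ^ j, hij ▸ hR j, ?_⟩)
  · rintro _ ⟨x, hx, rfl⟩
    exact mem_clSub.1 (mul_mem (mem_clSub_of_pts (R i).2.1.2 hx)
      (inv_mem (le_clSub C (Subgroup.pow_mem _ (Subgroup.mem_zpowers g) i)))) a ha
  · show g ^ j * (g ^ i)⁻¹ = g ^ (j - i)
    rw [mul_inv_eq_iff_eq_mul, ← pow_add, Nat.sub_add_cancel hlt.le]

omit [IsAlgClosed k] [Algebra.FiniteType k A] in
theorem evl_eq (χ η : A →ₐ[k] k) {B C : Type u} [CommRing B] [Algebra k B] [CommRing C] [Algebra k C]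
    (α : A →ₐ[k] B) (β : A →ₐ[k] C) (χ' : B →ₐ[k] k) (η' : C →ₐ[k] k) (hχ : χ'.comp α = χ) (hη : η'.comp β = η)
    (z : A ⊗[k] A) :
    η' (Obs28.evl χ' (Algebra.TensorProduct.map α β z)) = Algebra.TensorProduct.lmul' k (Algebra.TensorProduct.map χ η z) := by
  subst hχ hη
  induction z using TensorProduct.induction_on with
  | zero => simp
  | tmul p q => simp
  | add x y hx hy => simp only [map_add, hx, hy]

omit [IsAlgClosed k] [Algebra.FiniteType k A] in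
/-- The vanishing ideal of a subgroup is a Hopf ideal. -/
theorem isHopfIdeal_vI (Z : Subgroup Pt) : (vI (Z : Set Pt)).IsHopfIdeal k := by
  let J := vI (Z : Set Pt)
  let σ : Z → (A ⧸ J) →ₐ[k] k := fun g => Ideal.Quotient.liftₐ J g.1.ofConv fun a ha => mem_vI.1 ha _ g.2
  have hσ : ∀ q, (∀ g, σ g q = 0) → q = 0 := fun q hq => by
    obtain ⟨a, rfl⟩ := Ideal.Quotient.mk_surjective q
    exact Ideal.Quotient.eq_zero_iff_mem.2 (mem_vI.2 fun g hg => hq ⟨g, hg⟩)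
  refine @Ideal.IsHopfIdeal.mk _ _ _ _ _ (vI (Z : Set Pt)) ⟨fun z hz => ?_, fun z hz => ?_⟩ fun z hz => ?_
  · have h := mem_vI.1 hz 1 Z.one_mem
    rw [AlgHom.convOne_apply] at h
    simpa using h
  · show Algebra.TensorProduct.map (Ideal.Quotient.mkₐ k J) (Ideal.Quotient.mkₐ k J) (Coalgebra.comul (R := k) z) = 0
    refine Obs28.eq_zero_of_evl σ hσ _ fun g => hσ _ fun h => ?_
    rw [evl_eq g.1.ofConv h.1.ofConv _ _ (σ g) (σ h) rfl rfl]
    have := mem_vI.1 hz _ (Z.mul_mem g.2 h.2)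
    rwa [AlgHom.convMul_def] at this
  · exact mem_vI.2 fun g hg => mem_vI.1 hz g⁻¹ (Z.inv_mem hg)

end Groth.Agent.NonAbLib.DenseFG
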