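import Groth.Agent.Obs28.Unip.Fixed

/-!
# A connected group whose rational points are torsion has no others than the identity

Without unipotent-free element there is no subtorus, so the points act unipotently, and a unipotent
operator of finite order is the identity in characteristic zero.
-/

set_option autoImplicit false
set_option linter.style.haveILetI false

universe u

open CategoryTheory MonoidalCategory CartesianMonoidalCategory MonObj GrpObj AlgebraicGeometry

namespace Groth.Agent.NonAbLib.DenseFG

open Obs28 Obs28.Unip GrpSchLib.Kunneth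

theorem eq_zero_of_one_add_pow {k : Type*} [Field k] [CharZero k] {R : Type*} [Ring R] [Algebra k R] {N : R}
    (hN : IsNilpotent N) {m : ℕ} (hm : 0 < m) (h : (1 + N) ^ m = 1) : N = 0 := by
  have h1 : IsUnit ((∑ i ∈ Finset.range m, (1 + N) ^ i) : R) := by
    have e : ∀ i, ∃ w, Commute N w ∧ (1 + N) ^ i = 1 + N * w := fun i => by
      induction i with
      | zero => exact ⟨0, Commute.zero_right N, by simp⟩
      | succ i ih =>
        obtain ⟨w, hw, hi⟩ := ih
        refine ⟨1 + w + N * w, ((Commute.one_right N).add_right hw).add_right ((Commute.refl N).mul_right hw), ?_⟩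
        rw [pow_succ', hi]
        simp only [mul_add, add_mul, _root_.mul_one, _root_.one_mul]
        abel
    choose w hw he using e
    rw [show (∑ i ∈ Finset.range m, (1 + N) ^ i) = algebraMap k R m + N * ∑ i ∈ Finset.range m, w i by
      simp only [he, Finset.sum_add_distrib, ← Finset.mul_sum, Finset.sum_const, Finset.card_range, map_natCast,
        nsmul_one]]
    refine IsNilpotent.isUnit_add_left_of_commute ?_ ?_ (Algebra.commutes _ _).symm
    · exact (Commute.sum_right _ _ _ fun i _ => hw i).isNilpotent_mul_right hN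
    · exact (isUnit_iff_ne_zero.2 (Nat.cast_ne_zero.2 hm.ne')).map (algebraMap k R)
  have h2 := geom_sum_mul (1 + N) m
  rw [h, sub_self, add_sub_cancel_left] at h2
  exact h1.mul_right_eq_zero.1 h2

variable {k : Type u} [Field k] [IsAlgClosed k] [CharZero k] {Q : Over (Spec (CommRingCat.of k))} [GrpObj Q]
  [IsAffine Q.left] [Smooth Q.hom] [ConnectedSpace Q.left]

theorem eq_one_of_torsion (h : ∀ g : Rat Q, ∃ m : ℕ, 0 < m ∧ g ^ m = 1) (g : Rat Q) : g = 1 := by
  classical
  haveI := finiteType_fn Q
  haveI := isReduced_grp Q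
  obtain ⟨s, hs⟩ := (Algebra.FiniteType.out : (⊤ : Subalgebra k (Fn Q)).FG)
  let W := orbitSpan (rPi (G := Q)) (s : Set (Fn Q))
  haveI : Module.Finite k W := finite_orbitSpan rPi_regular s.finite_toSet
  let π := subPi (rPi (G := Q)) W (orbitSpan_stable _ _)
  have hW : IsRegular π := subPi_regular _ _ _ rPi_regular
  let b := Module.finBasis k W
  let φ : W →ₗ[k] k := (pfn (1 : Rat Q)).toLinearMap ∘ₗ W.subtype
  have hx : ∀ (x : Rat Q) (f : Fn Q) (hf : f ∈ s), pfn x f = φ (π x ⟨f, subset_orbitSpan _ _ hf⟩) := fun x f hf => by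
    show pfn x f = pfn 1 (rMap x f)
    rw [pfn_rMap', _root_.one_mul]
  have hgen : Algebra.adjoin k (Set.range fun p : _ × _ => fnMat hW b p.1 p.2) = ⊤ := by
    rw [eq_top_iff, ← hs, Algebra.adjoin_le_iff]
    intro f hf
    let v : W := ⟨f, subset_orbitSpan _ _ hf⟩
    have e : f = ∑ i, ∑ j, (φ (b i) * b.coord j v) • fnMat hW b i j := by
      refine ext_pts fun x => ?_
      simp only [map_sum, map_smul, smul_eq_mul, fnMat, Matrix.of_apply, pfn_coeff]
      rw [hx x f hf]
      conv_lhs => rw [show (⟨f, subset_orbitSpan _ _ hf⟩ : W) = v from rfl, ← b.sum_repr v]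
      simp only [map_sum, map_smul, smul_eq_mul]
      rw [Finset.sum_comm]
      refine Finset.sum_congr rfl fun j _ => ?_
      conv_lhs => rw [← b.sum_repr (π x (b j))]
      simp only [map_sum, map_smul, smul_eq_mul, Finset.mul_sum, Module.Basis.coord_apply]
      exact Finset.sum_congr rfl fun i _ => by ring
    rw [e]
    exact sum_mem fun i _ => sum_mem fun j _ => Subalgebra.smul_mem _
      (Algebra.subset_adjoin (show fnMat hW b i j ∈ Set.range (fun p : _ × _ => fnMat hW b p.1 p.2) from ⟨(i, j), rfl⟩)) _
  -- the points act unipotently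
  have hun : ∀ g : Rat Q, IsNilpotent ((π g).toLinearMap - 1) := fun g => by
    by_contra hne
    obtain ⟨θ, hθ, hmono⟩ := exists_subtorus hW b hgen g hne
    haveI := hθ
    haveI := hmono
    obtain ⟨_, _, u, humul, huone, huex, -, -, -⟩ := exists_gm_fn k
    obtain ⟨p, hp⟩ := huex (Units.mk0 2 two_ne_zero)
    obtain ⟨m, hm, hpm⟩ := h (p ≫ θ)
    let F : Rat (GmK k) →* Rat Q :=
      { toFun := fun q => q ≫ θ
        map_one' := MonObj.one_comp θ
        map_mul' := fun a b => MonObj.mul_comp a b θ }
    have e : p ^ m = 1 := (cancel_mono θ).1 (show F (p ^ m) = F 1 by rw [map_pow, map_one]; exact hpm)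
    let χ : Rat (GmK k) →* k :=
      { toFun := fun q => pfn q u
        map_one' := huone
        map_mul' := humul }
    have e2 := congrArg χ e
    rw [map_pow, map_one, show χ p = 2 from hp] at e2
    exact (Nat.one_lt_two_pow hm.ne').ne' (by exact_mod_cast e2)
  have hπ1 : ∀ g : Rat Q, (π g).toLinearMap = 1 := fun g => by
    obtain ⟨m, hm, hgm⟩ := h g
    let e : Rat Q →* Module.End k W :=
      { toFun := fun g => (π g).toLinearMap
        map_one' := by rw [map_one]; rfl
        map_mul' := fun a b => by rw [map_mul]; rfl }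
    have h1 : (1 + (e g - 1)) ^ m = (1 : Module.End k W) := by
      rw [show (1 : Module.End k W) + (e g - 1) = e g by abel, ← map_pow, hgm, map_one]
    exact sub_eq_zero.1 (eq_zero_of_one_add_pow (k := k) (hun g) hm h1)
  refine pfn_injective (AlgHom.ext_of_adjoin_eq_top hs fun f hf => ?_)
  rw [hx g f hf, hx 1 f hf]
  exact congrArg φ ((LinearMap.congr_fun (hπ1 g) _).trans (LinearMap.congr_fun (hπ1 1) _).symm)

end Groth.Agent.NonAbLib.DenseFG
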