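import Groth.Agent.NonAbLib.DenseFG.Sets
import Groth.Agent.NonAbLib.DenseFG.Torsion
import Groth.Agent.GrpSchLib.TakeuchiInv
import Groth.Agent.GrpSchLib.Cartier
import Groth.Agent.GrpSchLib.AffineHopf

/-!
# A finitely generated dense subgroup of points in characteristic zero
-/

set_option autoImplicit false
set_option linter.style.haveILetI false

universe u

open CategoryTheory MonObj AlgebraicGeometry TensorProduct WithConv

namespace Groth.Agent.NonAbLib.DenseFG

open GrpSchLib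

variable {k : Type u} [Field k] [IsAlgClosed k] {A : Type u} [CommRing A] [HopfAlgebra k A]

omit [IsAlgClosed k] in
theorem isHopfSubalgebra_top : SGA3.IsHopfSubalgebra k A ⊤ :=
  ⟨fun _ _ => by
    have h : Function.Surjective (⊤ : Subalgebra k A).val.toLinearMap := fun a => ⟨⟨a, trivial⟩, rfl⟩
    rw [LinearMap.range_eq_top.2 (TensorProduct.map_surjective h h)]
    trivial, fun _ _ => trivial⟩

omit [IsAlgClosed k] in
theorem exists_fg_le {B : Subalgebra k A} (hB : SGA3.IsHopfSubalgebra k A B) {x : A} (hx : x ∈ B) :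
    ∃ D : Subalgebra k A, D ≤ B ∧ x ∈ D ∧ D.FG ∧ SGA3.IsHopfSubalgebra k A D := by
  letI := SubHopf.hopf B hB
  obtain ⟨C, hxC, hCf, hC⟩ := ProPoints.exists_fg_hopf_of_finset (k := k) (A := B) {⟨x, hx⟩}
  refine ⟨C.map B.val, ?_, ⟨⟨x, hx⟩, hxC (Finset.mem_singleton_self _), rfl⟩, hCf.map _, ?_, ?_⟩
  · rintro _ ⟨c, -, rfl⟩
    exact c.2
  · rintro _ ⟨c, hc, rfl⟩
    obtain ⟨w, hw⟩ := hC.1 c hc
    let p := (B.val.comp C.val).codRestrict (C.map B.val) fun b => ⟨b.1, b.2, rfl⟩
    refine ⟨TensorProduct.map p.toLinearMap p.toLinearMap w, ?_⟩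
    refine Eq.trans ?_ (SubHopf.map_comulRes B hB c)
    show _ = Algebra.TensorProduct.map B.val B.val (Coalgebra.comul (R := k) c)
    rw [← hw, ← LinearMap.comp_apply, ← TensorProduct.map_comp]
    generalize w = z
    induction z using TensorProduct.induction_on with
    | zero => simp
    | tmul a b => rfl
    | add a b ha hb => simp only [map_add, ha, hb]
  · rintro _ ⟨c, hc, rfl⟩
    exact ⟨_, hC.2 c hc, rfl⟩

variable [CharZero k] [Algebra.FiniteType k A]

omit [IsAlgClosed k] in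
theorem eq_one_of_torsion_hopf [IsAlgClosed k] [IsDomain A]
    (h : ∀ f : WithConv (A →ₐ[k] k), ∃ m : ℕ, 0 < m ∧ f ^ m = 1) (f : WithConv (A →ₐ[k] k)) : f = 1 := by
  haveI : IsAffine (AffineHopf.sp k A).left := inferInstanceAs (IsAffine (Spec _))
  haveI : LocallyOfFiniteType (AffineHopf.sp k A).hom :=
    (HasRingHomProperty.Spec_iff (P := @LocallyOfFiniteType)).mpr (RingHom.finiteType_algebraMap.mpr inferInstance)
  haveI : Smooth (AffineHopf.sp k A).hom := GrpSchLib.smooth_of_charZero (AffineHopf.sp k A)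
  haveI : ConnectedSpace (AffineHopf.sp k A).left := inferInstanceAs (ConnectedSpace (PrimeSpectrum A))
  let Ψ : WithConv (A →ₐ[k] k) ≃* (AffineHopf.sp k k ⟶ AffineHopf.sp k A) := Spec.mapMulEquiv
  have key : ∀ g : Obs28.Rat (AffineHopf.sp k A), g = 1 := fun g => eq_one_of_torsion (fun g => by
    obtain ⟨m, hm, hm'⟩ := h (Ψ.symm g)
    exact ⟨m, hm, Ψ.symm.injective ((map_pow Ψ.symm g m).trans (hm'.trans (map_one Ψ.symm).symm))⟩) g
  exact Ψ.injective ((key (Ψ f)).trans (map_one Ψ).symm)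

theorem exists_fg_dense_domain [IsDomain A] :
    ∃ Φ : Subgroup (WithConv (A →ₐ[k] k)), Φ.FG ∧ vI (Φ : Set (WithConv (A →ₐ[k] k))) = ⊥ := by
  obtain ⟨P, hP, hmax⟩ := exists_largest (k := k) (A := A)
  obtain ⟨Z, hZ, hZn⟩ := exists_normal hP hmax
  have hPI : vI (Z : Set (WithConv (A →ₐ[k] k))) = P := by rw [hZ]; exact vI_pts hP.1.isRadical
  haveI : P.IsHopfIdeal k := hPI ▸ isHopfIdeal_vI Z
  have hpt : ∀ a : A, (∀ g : A →ₐ[k] k, g a = 0) → a = 0 := fun a ha => by
    by_contra hne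
    obtain ⟨x, hx⟩ := ComodLib.exists_point_ne_zero (k := k) (a := a) fun hn => hne hn.eq_zero
    exact hx (ha x)
  -- the largest one is normal as a Hopf ideal
  have hN : SGA3.IsNormalHopfIdeal k A P := by
    let G : A →ₐ[k] A ⊗[k] (A ⧸ P) := Algebra.TensorProduct.includeLeft
    let H : A →ₐ[k] A ⊗[k] (A ⧸ P) := Algebra.TensorProduct.includeRight.comp (Ideal.Quotient.mkₐ k P)
    let c := (toConv G * toConv H * (toConv G)⁻¹).ofConv
    have hc : ∀ a ∈ P, c a = 0 := fun a ha => by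
      let σ : Z → (A ⧸ P) →ₐ[k] k := fun z => Ideal.Quotient.liftₐ P z.1.ofConv fun b hb =>
        mem_vI.1 (hPI.symm ▸ hb : b ∈ vI (Z : Set (WithConv (A →ₐ[k] k)))) _ z.2
      have hσ : ∀ q, (∀ z, σ z q = 0) → q = 0 := fun q hq => by
        obtain ⟨b, rfl⟩ := Ideal.Quotient.mk_surjective q
        exact Ideal.Quotient.eq_zero_iff_mem.2 (hPI ▸ mem_vI.2 fun z hz => hq ⟨z, hz⟩)
      refine Obs28.eq_zero_of_evl (id : (A →ₐ[k] k) → (A →ₐ[k] k)) hpt _ fun χ => hσ _ fun z => ?_
      let L : A ⊗[k] (A ⧸ P) →ₐ[k] k := Algebra.TensorProduct.productMap χ (σ z)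
      have hL : ∀ w, σ z (Obs28.evl (id χ : A →ₐ[k] k) w) = L w := fun w => by
        induction w using TensorProduct.induction_on with
        | zero => simp
        | tmul p q => simp [L]
        | add x y hx hy => simp only [map_add, hx, hy]
      rw [hL]
      have eG : L.comp G = χ := AlgHom.ext fun x => by simp [L, G]
      have eH : L.comp H = z.1.ofConv := AlgHom.ext fun x => by
        simp [L, H, σ]
      have ei : L.comp ((toConv G)⁻¹).ofConv = ((toConv χ)⁻¹).ofConv :=
        AlgHom.ext fun x => DFunLike.congr_fun eG (HopfAlgebraStruct.antipode (R := k) x)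
      show (L.comp c) a = 0
      rw [show L.comp c = (toConv χ * z.1 * (toConv χ)⁻¹).ofConv by
        simp only [c, AlgHom.comp_convMul_distrib, toConv_ofConv, eG, eH, ei]]
      exact mem_vI.1 (hPI.symm ▸ ha : a ∈ vI (Z : Set (WithConv (A →ₐ[k] k)))) _ (hZn.conj_mem _ z.2 _)
    intro R _ _ g h hh a ha
    let h' : A ⧸ P →ₐ[k] R := Ideal.Quotient.liftₐ P h hh
    let L : A ⊗[k] (A ⧸ P) →ₐ[k] R := Algebra.TensorProduct.productMap g h'
    have eG : L.comp G = g := AlgHom.ext fun x => by simp [L, G]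
    have eH : L.comp H = h := AlgHom.ext fun x => by simp [L, H, h']
    have ei : L.comp ((toConv G)⁻¹).ofConv = g.comp (HopfAlgebra.antipodeAlgHom k A) :=
      AlgHom.ext fun x => DFunLike.congr_fun eG (HopfAlgebraStruct.antipode (R := k) x)
    rw [HopfPtLib.conv3_eq]
    have e : L.comp c = (toConv g * toConv h * toConv (g.comp (HopfAlgebra.antipodeAlgHom k A))).ofConv := by
      simp only [c, AlgHom.comp_convMul_distrib, toConv_ofConv, eG, eH, ei]
    exact (DFunLike.congr_fun e a).symm.trans ((congrArg L (hc a ha)).trans (map_zero L))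
  -- the quotient by it has only one point
  have hB := TakeuchiInv.isHopfSubalgebra_inv hN
  have hscalar : ∀ x ∈ TakeuchiInv.inv (k := k) P, x = algebraMap k A (Coalgebra.counit (R := k) x) := by
    intro x hx
    obtain ⟨D, hDB, hxD, hDf, hD⟩ := exists_fg_le hB hx
    letI := SubHopf.hopf D hD
    haveI : Algebra.FiniteType k D := ⟨(Subalgebra.fg_top D).mpr hDf⟩
    let j : D →ₐc[k] A := BialgHom.ofAlgHom D.val rfl (AlgHom.ext fun c => SubHopf.map_comulRes D hD c)
    let res : WithConv (A →ₐ[k] k) →* WithConv (D →ₐ[k] k) := MonoidHom.mk'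
      (fun g => toConv (g.ofConv.comp (j : D →ₐ[k] A))) fun g g' =>
        WithConv.ofConv_injective (AlgHom.convMul_comp_bialgHom_distrib g g' j)
    have hsurj : Function.Surjective res := fun χ => by
      obtain ⟨χ', hχ'⟩ := ProPoints.extend_fg hD isHopfSubalgebra_top hDf Algebra.FiniteType.out le_top χ.ofConv
      refine ⟨toConv (χ'.comp Subalgebra.topEquiv.symm.toAlgHom), WithConv.ofConv_injective (AlgHom.ext fun d => ?_)⟩
      exact (congrArg χ' (Subtype.ext rfl)).trans (hχ' d)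
    have hres : ∀ z ∈ Z, res z = 1 := fun z hz => WithConv.ofConv_injective (AlgHom.ext fun d => by
      have hd : (d : A) - algebraMap k A (Coalgebra.counit (R := k) (d : A)) ∈ P :=
        TakeuchiInv.augIdealSpan_inv_le P (Ideal.subset_span
          ⟨sub_mem (hDB d.2) (Subalgebra.algebraMap_mem _ _), by simp⟩)
      have h0 := mem_vI.1 (hPI.symm ▸ hd : _ ∈ vI (Z : Set (WithConv (A →ₐ[k] k)))) z hz
      rw [map_sub, AlgHom.commutes, sub_eq_zero] at h0
      exact h0.trans (AlgHom.convOne_apply (R := k) (C := D) (A := k) d).symm)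
    have hone : ∀ f : WithConv (D →ₐ[k] k), f = 1 := eq_one_of_torsion_hopf fun f => by
      obtain ⟨g, rfl⟩ := hsurj f
      obtain ⟨m, hm, hgm⟩ := exists_pow_mem hmax g
      refine ⟨m, hm, ?_⟩
      rw [← map_pow]
      exact hres _ (show g ^ m ∈ (Z : Set (WithConv (A →ₐ[k] k))) from hZ.symm ▸ hgm)
    by_contra hne
    have hne' : (⟨x, hxD⟩ : D) - algebraMap k D (Coalgebra.counit (R := k) x) ≠ 0 := fun h =>
      hne (sub_eq_zero.1 (congrArg Subtype.val h))
    obtain ⟨f, hf⟩ := ComodLib.exists_point_ne_zero (k := k) (fun hn => hne' hn.eq_zero)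
    rw [map_sub, AlgHom.commutes, sub_ne_zero] at hf
    exact hf ((DFunLike.congr_fun (congrArg WithConv.ofConv (hone (toConv f))) _).trans
      (AlgHom.convOne_apply (R := k) (C := D) (A := k) _))
  obtain ⟨-, -, Φ, hΦ, hΦP⟩ := hP
  refine ⟨Φ, hΦ, le_bot_iff.1 (hΦP.trans ?_)⟩
  rw [TakeuchiInv.eq_augIdealSpan_inv hN]
  refine Ideal.span_le.2 ?_
  rintro x ⟨hx, hεx⟩
  rw [hscalar x hx]
  simp [show Coalgebra.counit (R := k) x = 0 from hεx]

end Groth.Agent.NonAbLib.DenseFG
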