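import Groth.Agent.NonAbLib.DenseFG.Quotient

/-!
# A finitely generated dense subgroup: all components
-/

set_option autoImplicit false
set_option linter.style.haveILetI false

universe u

open CategoryTheory MonoidalCategory CartesianMonoidalCategory MonObj AlgebraicGeometry TensorProduct WithConv

namespace Groth.Agent.NonAbLib.DenseFG

theorem fg_map {G H : Type*} [Group G] [Group H] {P : Subgroup G} (h : P.FG) (f : G →* H) : (P.map f).FG := by
  classical
  obtain ⟨S, rfl⟩ := h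
  exact ⟨S.image f, by rw [Finset.coe_image, MonoidHom.map_closure]⟩

open GrpSchLib
open AlgGrpQ (IsIrred IsReg)

variable {k : Type u} [Field k] [IsAlgClosed k] [CharZero k] {A : Type u} [CommRing A] [HopfAlgebra k A]
  [Algebra.FiniteType k A]

local notation "Pt" => WithConv (A →ₐ[k] k)

omit [CharZero k] in
/-- The component of the identity. -/
theorem exists_component : ∃ (P : Ideal A) (Z : Subgroup Pt), P.IsPrime ∧ (Z : Set Pt) = pts P ∧
    ∀ S : Set Pt, IsIrred S → (1 : Pt) ∈ S → S ⊆ Z := by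
  haveI : (RingHom.ker (1 : Pt).ofConv).IsPrime := RingHom.ker_isPrime _
  obtain ⟨P, hPmin, hPle⟩ := Ideal.exists_minimalPrimes_le (bot_le : (⊥ : Ideal A) ≤ RingHom.ker (1 : Pt).ofConv)
  haveI : P.IsPrime := hPmin.1.1
  have h1 : (1 : Pt) ∈ pts P := ker_le_iff.1 hPle
  have hkey : ∀ S : Set Pt, IsIrred S → (1 : Pt) ∈ S → S ⊆ pts P := by
    intro S hS hS1
    let T := Set.image2 (· * ·) (pts (k := k) P) S
    have hT : IsIrred T := AlgGrpQ.IsIrred.image2 (isIrred_pts P) hS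
      (fun t => AlgGrpQ.IsReg.mul AlgGrpQ.isReg_id (AlgGrpQ.isReg_const t))
      (fun s => AlgGrpQ.IsReg.mul (AlgGrpQ.isReg_const s) AlgGrpQ.isReg_id)
    have hTP : vI T ≤ P := (vI_anti (T := T) fun g hg => ⟨g, hg, 1, hS1, _root_.mul_one g⟩).trans
      (vI_pts_le (Ideal.IsPrime.isRadical inferInstance))
    haveI := isPrime_vI hT ⟨_, 1, h1, 1, hS1, rfl⟩
    have hPT : P ≤ vI T := hPmin.2 ⟨inferInstance, bot_le⟩ hTP
    exact fun g hg => pts_anti hPT (subset_pts_vI T ⟨1, h1, g, hg, _root_.one_mul g⟩)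
  let Z : Subgroup Pt :=
    { carrier := pts P
      one_mem' := h1
      mul_mem' := fun {x y} hx hy => hkey _
        (AlgGrpQ.IsIrred.image2 (isIrred_pts P) (isIrred_pts P)
          (fun t => AlgGrpQ.IsReg.mul AlgGrpQ.isReg_id (AlgGrpQ.isReg_const t))
          (fun s => AlgGrpQ.IsReg.mul (AlgGrpQ.isReg_const s) AlgGrpQ.isReg_id))
        ⟨1, h1, 1, h1, _root_.one_mul 1⟩ ⟨x, hx, y, hy, rfl⟩
      inv_mem' := fun {x} hx => hkey _ (isIrred_image (isIrred_pts P) (AlgGrpQ.IsReg.inv AlgGrpQ.isReg_id))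
        ⟨1, h1, inv_one⟩ ⟨x, hx, rfl⟩ }
  exact ⟨P, Z, inferInstance, rfl, hkey⟩

/-- In characteristic zero some finitely generated group of points is dense. -/
theorem exists_fg_dense : ∃ Φ : Subgroup Pt, Φ.FG ∧ ∀ a : A, (∀ g ∈ Φ, g.ofConv a = 0) → IsNilpotent a := by
  classical
  haveI : IsNoetherianRing A := Algebra.FiniteType.isNoetherianRing k A
  obtain ⟨P, Z, _, hZ, hkey⟩ := exists_component (k := k) (A := A)
  haveI : P.IsHopfIdeal k := by
    have e : vI (Z : Set Pt) = P := by rw [hZ]; exact vI_pts (Ideal.IsPrime.isRadical inferInstance)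
    exact e ▸ isHopfIdeal_vI Z
  haveI : Algebra.FiniteType k (A ⧸ P) :=
    Algebra.FiniteType.of_surjective (Ideal.Quotient.mkₐ k P) Ideal.Quotient.mk_surjective
  obtain ⟨Φ₀, hΦ₀, hdense⟩ := exists_fg_dense_domain (k := k) (A := A ⧸ P)
  let π : A →ₐc[k] A ⧸ P := Bialgebra.Quotient.mkBialgHom (R := k) P
  let res : WithConv ((A ⧸ P) →ₐ[k] k) →* Pt := MonoidHom.mk'
    (fun g => toConv (g.ofConv.comp (π : A →ₐ[k] A ⧸ P))) fun g g' =>
      WithConv.ofConv_injective (AlgHom.convMul_comp_bialgHom_distrib g g' π)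
  haveI : Finite (minimalPrimes A) := (minimalPrimes.finite_of_isNoetherianRing A).to_subtype
  have hsel : ∀ R : minimalPrimes A, ∃ g : Pt, g ∈ pts R.1 := fun R => by
    haveI : R.1.IsPrime := R.2.1.1
    obtain ⟨x, -⟩ := ComodLib.exists_point_ne_zero (k := k) (a := (1 : A ⧸ R.1)) not_isNilpotent_one
    exact ⟨toConv (x.comp (Ideal.Quotient.mkₐ k R.1)), fun b hb => by
      show x (Ideal.Quotient.mk R.1 b) = 0
      rw [Ideal.Quotient.eq_zero_iff_mem.2 hb, map_zero]⟩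
  choose gR hgR using hsel
  let Φ : Subgroup Pt := Φ₀.map res ⊔ Subgroup.closure (Set.range gR)
  refine ⟨Φ, (fg_map hΦ₀ res).sup ⟨(Set.finite_range gR).toFinset, by simp⟩, fun a ha => ?_⟩
  have hIP : vI (Φ : Set Pt) ≤ P := fun b hb => Ideal.Quotient.eq_zero_iff_mem.1 (by
    have : Ideal.Quotient.mk P b ∈ vI (Φ₀ : Set (WithConv ((A ⧸ P) →ₐ[k] k))) :=
      mem_vI.2 fun g hg => mem_vI.1 hb (res g) (le_sup_left (b := Subgroup.closure (Set.range gR))
        (Subgroup.mem_map_of_mem res hg))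
    rwa [hdense, Ideal.mem_bot] at this)
  by_contra hn
  obtain ⟨x, hx⟩ := ComodLib.exists_point_ne_zero (k := k) hn
  haveI : (RingHom.ker x).IsPrime := RingHom.ker_isPrime _
  obtain ⟨R, hR, hRx⟩ := Ideal.exists_minimalPrimes_le (bot_le : (⊥ : Ideal A) ≤ RingHom.ker x)
  haveI : R.IsPrime := hR.1.1
  let g₀ := gR ⟨R, hR⟩
  have hmem : g₀⁻¹ * toConv x ∈ Z := hkey _
    (isIrred_image (isIrred_pts (k := k) R) (f := fun y => g₀⁻¹ * y)
      (AlgGrpQ.IsReg.mul (AlgGrpQ.isReg_const _) AlgGrpQ.isReg_id))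
    ⟨g₀, hgR ⟨R, hR⟩, inv_mul_cancel _⟩ ⟨toConv x, fun b hb => hRx hb, rfl⟩
  have hcl : toConv x ∈ clSub Φ := by
    rw [← mul_inv_cancel_left g₀ (toConv x)]
    exact mul_mem (le_clSub Φ (le_sup_right (a := Φ₀.map res) (Subgroup.subset_closure ⟨_, rfl⟩)))
      (mem_clSub_of_pts hIP (hZ ▸ hmem : _ ∈ pts P))
  exact hx (mem_clSub.1 hcl a (mem_vI.2 ha))

omit [Algebra.FiniteType k A] in
/-- The statement for affine group schemes. -/
theorem exists_fg_dense_subgroup (G : Over (Spec (CommRingCat.of k))) [GrpObj G] [IsAffine G.left]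
    [LocallyOfFiniteType G.hom] :
    ∃ Φ : Subgroup (𝟙_ (Over (Spec (CommRingCat.of k))) ⟶ G), Φ.FG ∧
      Dense {x : ↥G.left | ∃ g ∈ Φ, g.left.base (IsLocalRing.closedPoint k) = x} := by
  obtain ⟨A, _, _, ⟨e⟩⟩ := AffineHopf.exists_hopf G
  let e' : AffineHopf.sp k A ≅ G := (Grp.forget _).mapIso e
  haveI : IsIso e'.hom.left := (Over.forget _).map_isIso e'.hom
  haveI : Algebra.FiniteType k A := by
    have h : LocallyOfFiniteType (AffineHopf.sp k A).hom := by
      rw [← Over.w e'.hom]; infer_instance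
    exact RingHom.finiteType_algebraMap.1 ((HasRingHomProperty.Spec_iff (P := @LocallyOfFiniteType)).1 h)
  obtain ⟨Φ, hΦ, hdense⟩ := exists_fg_dense (k := k) (A := A)
  let U : 𝟙_ (Over (Spec (CommRingCat.of k))) ⟶ AffineHopf.sp k k := Over.homMk (𝟙 _) (by
    show 𝟙 _ ≫ Spec.map (CommRingCat.ofHom (algebraMap k k)) = 𝟙 _
    rw [Category.id_comp]
    exact Spec.map_id _)
  let Ψ : WithConv (A →ₐ[k] k) →* (𝟙_ (Over (Spec (CommRingCat.of k))) ⟶ G) := MonoidHom.mk'
    (fun f => U ≫ AffineHopf.spMap f.ofConv ≫ e.hom.hom.hom) fun f f' => by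
      rw [show AffineHopf.spMap (f * f').ofConv = AffineHopf.spMap f.ofConv * AffineHopf.spMap f'.ofConv from
        (AffineHopf.spMap_mul f.ofConv f'.ofConv).symm, MonObj.mul_comp, MonObj.comp_mul]
  refine ⟨Φ.map Ψ, fg_map hΦ Ψ, ?_⟩
  let S : Set (PrimeSpectrum A) :=
    (fun f : WithConv (A →ₐ[k] k) => PrimeSpectrum.comap f.ofConv.toRingHom (IsLocalRing.closedPoint k)) '' Φ
  have hS : Dense S := by
    rw [dense_iff_closure_eq, ← PrimeSpectrum.zeroLocus_vanishingIdeal_eq_closure,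
      PrimeSpectrum.zeroLocus_eq_univ_iff]
    intro a ha
    refine mem_nilradical.2 (hdense a fun g hg => ?_)
    have h := (PrimeSpectrum.mem_vanishingIdeal _ a).1 ha _ ⟨g, hg, rfl⟩
    change g.ofConv a ∈ IsLocalRing.maximalIdeal k at h
    rw [IsLocalRing.maximalIdeal_eq_bot] at h
    exact (Ideal.mem_bot.1 h)
  refine (e'.hom.left.homeomorph.surjective.denseRange.dense_image
    e'.hom.left.continuous hS).mono ?_
  rintro _ ⟨_, ⟨f, hf, rfl⟩, rfl⟩
  exact ⟨Ψ f, Subgroup.mem_map_of_mem Ψ hf, rfl⟩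

end Groth.Agent.NonAbLib.DenseFG
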